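import Cfsg.Agent.H716.S5.Card
import Cfsg.Agent.S0280
import Cfsg.Agent.LieClassical.HermPerfect
import Cfsg.Agent.LieClassical.HermSimple

/-!
# S2274: using `SBelow` for `PSU_m(q)`

* `card_psu_lt` : `|PSU_m(q)| < |PSU_n(q)|` for `2 ≤ m < n`;
* `below_psu` : the strong row of `PSU_m(q)` from the rows of the groups smaller than `PSU_n(q)`;
* `rsHyp_down` : the solvable Baer-Suzuki theorem in the universe 0.
-/

set_option autoImplicit false

universe u

namespace Cfsg.Agent.H236.S5U

open Cfsg Cfsg.Agent.H533.T5 Cfsg.Agent.H132.S5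

theorem card_psu_succ {F : Type*} [Field F] [Fintype F] {q : ℕ} (hF : Fintype.card F = q ^ 2) {n : ℕ} (hn : 2 ≤ n)
    (hfin : 0 < Nat.card (PSU n F q)) : Nat.card (PSU n F q) < Nat.card (PSU (n + 1) F q) := by
  have hq : 2 ≤ q := by
    have h1 : 1 < Fintype.card F := Fintype.one_lt_card
    rw [hF] at h1
    by_contra hcon
    have h2 : q ≤ 1 := by omega
    have h3 : q ^ 2 ≤ 1 ^ 2 := Nat.pow_le_pow_left h2 2
    omega
  have h1 := S0280.result hF n hn
  have h2 := S0280.result hF (n + 1) (by omega)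
  rw [Finset.prod_range_succ] at h2
  set A := Nat.card (PSU n F q) with hA
  set B := Nat.card (PSU (n + 1) F q) with hB
  set X := ∏ i ∈ Finset.range n, (if Even i then q ^ (i + 1) + 1 else q ^ (i + 1) - 1) with hX
  set Y := (if Even n then q ^ (n + 1) + 1 else q ^ (n + 1) - 1) with hY
  have he : (n + 1) * (n + 1 - 1) / 2 = n + n * (n - 1) / 2 := by
    have : (n + 1) * (n + 1 - 1) = n * 2 + n * (n - 1) := by
      obtain ⟨m, rfl⟩ : ∃ m, n = m + 1 := ⟨n - 1, by omega⟩
      simp only [Nat.add_sub_cancel]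
      ring
    rw [this, Nat.mul_comm n 2, Nat.mul_add_div (by norm_num)]
  rw [he, pow_add] at h2
  have h3 : Nat.gcd (n + 1) (q + 1) * ((q + 1) * B) = q ^ n * Y * (Nat.gcd n (q + 1) * ((q + 1) * A)) := by
    rw [h1, h2]; ring
  have hg1 : Nat.gcd (n + 1) (q + 1) ≤ q + 1 := Nat.gcd_le_right _ (by omega)
  have hg0 : 1 ≤ Nat.gcd n (q + 1) := Nat.gcd_pos_of_pos_left _ (by omega)
  have h4 : (q + 1) * B * (q + 1) ≥ q ^ n * Y * ((q + 1) * A) := by
    calc (q + 1) * B * (q + 1) ≥ Nat.gcd (n + 1) (q + 1) * ((q + 1) * B) := by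
          rw [mul_comm]; exact Nat.mul_le_mul_right _ hg1
      _ = q ^ n * Y * (Nat.gcd n (q + 1) * ((q + 1) * A)) := h3
      _ ≥ q ^ n * Y * (1 * ((q + 1) * A)) :=
          Nat.mul_le_mul_left _ (Nat.mul_le_mul_right _ hg0)
      _ = _ := by rw [one_mul]
  have h5 : q ^ n * Y > q + 1 := by
    have e1 : q ^ 2 ≤ q ^ n := Nat.pow_le_pow_right (by omega) hn
    have e2 : q + 2 ≤ q ^ 2 := by nlinarith
    have e3 : 1 ≤ Y := by
      have : 2 ^ 1 ≤ q ^ (n + 1) :=
        le_trans (Nat.pow_le_pow_left hq 1) (Nat.pow_le_pow_right (by omega) (by omega))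
      rw [hY]
      split_ifs <;> omega
    have e4 : q ^ n * 1 ≤ q ^ n * Y := Nat.mul_le_mul_left _ e3
    omega
  by_contra hcon
  push Not at hcon
  have h6 : (q + 1) * B * (q + 1) ≤ (q + 1) * ((q + 1) * A) := by
    calc (q + 1) * B * (q + 1) = (q + 1) * ((q + 1) * B) := by ring
      _ ≤ _ := Nat.mul_le_mul_left _ (Nat.mul_le_mul_left _ hcon)
  have h7 : (q + 1) * ((q + 1) * A) < q ^ n * Y * ((q + 1) * A) :=
    Nat.mul_lt_mul_of_pos_right h5 (Nat.mul_pos (by omega) hfin)
  omega

theorem finite_psu {F : Type*} [Field F] [Fintype F] (n q : ℕ) : Finite (PSU n F q) := by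
  have h1 : Finite (SU n F q) := by
    unfold SU
    infer_instance
  unfold PSU
  infer_instance

theorem card_psu_lt {F : Type*} [Field F] [Fintype F] {q : ℕ} (hF : Fintype.card F = q ^ 2) {m n : ℕ} (hm : 2 ≤ m)
    (hmn : m < n) : Nat.card (PSU m F q) < Nat.card (PSU n F q) := by
  have hpos : ∀ k, 0 < Nat.card (PSU k F q) := fun k => by
    have := finite_psu (F := F) k q
    exact Nat.card_pos
  induction n, hmn using Nat.le_induction with
  | base => exact card_psu_succ hF hm (hpos m)
  | succ n hmn ih => exact ih.trans (card_psu_succ hF (by omega) (hpos n))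

/-- The strong row of `PSU_m(q)`, `m < n`. -/
theorem below_psu {p : ℕ} {S : Type u} [Group S] [Finite S] {F : Type} [Field F] [Fintype F] {n q : ℕ}
    (hF : Fintype.card F = q ^ 2) {m : ℕ} (hm : 3 ≤ m) (hmn : m < n) (h32 : ¬ (m = 3 ∧ q = 2))
    (e : S ≃* PSU n F q) (hlt : SBelow.{u} p (Nat.card S)) : SRow p (PSU m F q) := by
  have hfin := finite_psu (F := F) m q
  have hs : IsSimpleGroup (PSU m F q) :=
    Cfsg.Agent.LieClassical.HermSimple.isSimpleGroup_of_perfect hF hm
      (Cfsg.Agent.LieClassical.HermPerfect.commutator_SU_eq_top hF hm h32)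
  have hna : ¬ IsMulCommutative (PSU m F q) := by
    intro h
    have h1 : commutator (PSU m F q) = ⊥ := by
      rw [commutator_eq_bot_iff_center_eq_top, Subgroup.eq_top_iff']
      intro x
      rw [Subgroup.mem_center_iff]
      exact fun y => h.is_comm.comm y x
    have h2 : commutator (SU m F q) = ⊤ :=
      Cfsg.Agent.LieClassical.HermPerfect.commutator_SU_eq_top hF hm h32
    have h3 : commutator (PSU m F q) = ⊤ := by
      have hsurj : Function.Surjective (QuotientGroup.mk' (Subgroup.center (SU m F q))) :=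
        QuotientGroup.mk'_surjective _
      have := congrArg (Subgroup.map (QuotientGroup.mk' (Subgroup.center (SU m F q)))) h2
      rw [commutator_def, Subgroup.map_commutator, Subgroup.map_top_of_surjective _ hsurj] at this
      exact this
    rw [h3] at h1
    exact top_ne_bot h1
  refine Cfsg.Agent.H716.S5.SBelow.row hlt hna ?_
  rw [Nat.card_congr e.toEquiv]
  exact card_psu_lt hF (by omega) hmn

/-- the solvable Baer-Suzuki theorem in the universe 0 -/
theorem rsHyp_down {p : ℕ} (h : RSHyp.{u} p) : RSHyp.{0} p := by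
  intro K _ _ x hx hgx
  let e : ULift.{u} K ≃* K := MulEquiv.ulift
  have h1 := h (ULift.{u} K) (e.symm x) (by rw [MulEquiv.orderOf_eq, hx]) (fun g => by
    have h2 := hgx (e g)
    have h3 : (Subgroup.closure ({e.symm x, g * e.symm x * g⁻¹} : Set (ULift.{u} K))).map (e : ULift.{u} K →* K) =
        Subgroup.closure ({x, e g * x * (e g)⁻¹} : Set K) := by
      rw [MonoidHom.map_closure]
      congr 1
      rw [Set.image_pair]
      show ({e (e.symm x), e (g * e.symm x * g⁻¹)} : Set K) = _
      rw [map_mul, map_mul, map_inv, e.apply_symm_apply]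
    rw [← h3] at h2
    exact Group.isSolvable_of_isSolvable_injective
      (f := ((Subgroup.closure ({e.symm x, g * e.symm x * g⁻¹} : Set (ULift.{u} K))).equivMapOfInjective
        (e : ULift.{u} K →* K) e.injective).toMonoidHom) (MulEquiv.injective _))
  have h2 : Subgroup.closure {y : K | ∃ g : K, y = g * x * g⁻¹} =
      (Subgroup.closure {y : ULift.{u} K | ∃ g : ULift.{u} K, y = g * e.symm x * g⁻¹}).map (e : ULift.{u} K →* K) := by
    rw [MonoidHom.map_closure]
    congr 1
    ext y
    constructor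
    · rintro ⟨g, rfl⟩
      refine ⟨e.symm g * e.symm x * (e.symm g)⁻¹, ⟨e.symm g, rfl⟩, ?_⟩
      show e (e.symm g * e.symm x * (e.symm g)⁻¹) = _
      rw [map_mul, map_mul, map_inv, e.apply_symm_apply, e.apply_symm_apply]
    · rintro ⟨_, ⟨g, rfl⟩, rfl⟩
      refine ⟨e g, ?_⟩
      show e (g * e.symm x * g⁻¹) = _
      rw [map_mul, map_mul, map_inv, e.apply_symm_apply]
  rw [h2]
  exact Group.isSolvable_of_surjective (f := (e : ULift.{u} K →* K).subgroupMap _)
    ((e : ULift.{u} K →* K).subgroupMap_surjective _)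

end Cfsg.Agent.H236.S5U
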